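import Cfsg.Agent.SelfCentNC.Classify
import Cfsg.Agent.Classical.PSLTwoSub
import Cfsg.Agent.S0494

/-!
# Simple groups with self-centralizing non-cyclic subgroups: the converse
-/

set_option autoImplicit false

namespace CfsgLib.SelfCentNC

open Subgroup
open CfsgLib.Dickson (PSL2)

theorem sc_of_equiv {G G' : Type*} [Group G] [Group G'] [Finite G] [Finite G'] (e : G ≃* G') (h : SC G') :
    SC G := by
  intro H hH g hg
  have hH' : ¬ IsCyclic (H.map e.toMonoidHom) := fun hc =>
    hH ((e.subgroupMap H).isCyclic.2 hc)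
  have h1 := h _ hH' (x := e g) (mem_centralizer_iff.2 (by
    rintro _ ⟨x, hx, rfl⟩
    show e x * e g = e g * e x
    rw [← map_mul, ← map_mul, mem_centralizer_iff.1 hg x hx]))
  obtain ⟨x, hx, hxg⟩ := h1
  rwa [← e.injective (show e x = e g from hxg)]

/-- It suffices to look at the centralizer of one element. -/
theorem sc_of_centralizers {G : Type*} [Group G] [Finite G]
    (h : ∀ c : G, c ≠ 1 → ∀ H : Subgroup G, ¬ IsCyclic H → H ≤ centralizer ({c} : Set G) → c ∈ H) :
    SC G := by
  intro H hH c hc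
  by_cases h1 : c = 1
  · rw [h1]; exact one_mem _
  · exact h c h1 H hH fun x hx => mem_centralizer_singleton_iff.2 (mem_centralizer_iff.1 hc x hx)

theorem not_cyclic_mono {G : Type*} [Group G] {H K : Subgroup G} (hle : H ≤ K) (hH : ¬ IsCyclic H) :
    ¬ IsCyclic K := by
  intro hK
  exact hH (isCyclic_of_le hle)

/-- A subgroup of order at most three is cyclic. -/
theorem four_le_card {G : Type*} [Group G] [Finite G] {H : Subgroup G} (hH : ¬ IsCyclic H) :
    4 ≤ Nat.card H := by
  by_contra hlt
  refine hH ?_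
  have h0 : 0 < Nat.card H := Nat.card_pos
  rcases (by omega : Nat.card H = 1 ∨ Nat.card H = 2 ∨ Nat.card H = 3) with e | e | e
  · haveI := (Nat.card_eq_one_iff_unique.1 e).1
    infer_instance
  · haveI : Fact (Nat.Prime 2) := ⟨Nat.prime_two⟩
    exact isCyclic_of_prime_card e
  · haveI : Fact (Nat.Prime 3) := ⟨Nat.prime_three⟩
    exact isCyclic_of_prime_card e

/-- In a dihedral two-group a non-cyclic subgroup contains every central element. -/
theorem dihedral_center_mem {n j : ℕ} (hn : n = 2 ^ j) (h2 : 2 ≤ n)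
    (H : Subgroup (DihedralGroup n)) (hH : ¬ IsCyclic H) {c : DihedralGroup n} (hc1 : c ≠ 1)
    (hc : ∀ x, c * x = x * c) : c ∈ H := by
  haveI : NeZero n := ⟨by omega⟩
  haveI : Fact (Nat.Prime 2) := ⟨Nat.prime_two⟩
  rcases h2.eq_or_lt with e | h3
  · subst e
    have h4 : Nat.card H ∣ 4 := by
      have := Subgroup.card_subgroup_dvd_card H
      rwa [DihedralGroup.nat_card] at this
    have htop : H = ⊤ := eq_top_of_le_card H (by
      rw [DihedralGroup.nat_card]; exact four_le_card hH)
    rw [htop]; exact mem_top _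
  · have uniq : ∀ x y : ZMod n, x + x = 0 → x ≠ 0 → y + y = 0 → y ≠ 0 → x = y := by
      intro x y hx hx0 hy hy0
      have key : ∀ w : ZMod n, w + w = 0 → w ≠ 0 → 2 * w.val = n := by
        intro w hw hw0
        have hd : n ∣ w.val + w.val := (ZMod.natCast_eq_zero_iff _ _).mp (by push_cast [ZMod.natCast_zmod_val]; exact hw)
        obtain ⟨m, hm⟩ := hd
        have hlt := ZMod.val_lt w
        have hne : w.val ≠ 0 := fun h0 => hw0 ((ZMod.val_eq_zero w).1 h0)
        have : m = 1 := by
          rcases m with _ | _ | m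
          · omega
          · rfl
          · exfalso; nlinarith
        subst this; omega
      exact ZMod.val_injective n (by have := key x hx hx0; have := key y hy hy0; omega)
    obtain ⟨l, rfl, hl⟩ : ∃ l : ZMod n, c = DihedralGroup.r l ∧ l + l = 0 := by
      rcases c with l | l
      · refine ⟨l, rfl, ?_⟩
        have h1 := hc (DihedralGroup.sr 0)
        rw [DihedralGroup.r_mul_sr, DihedralGroup.sr_mul_r, DihedralGroup.sr.injEq] at h1
        linear_combination -h1
      · exfalso
        have h1 := hc (DihedralGroup.r 1)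
        rw [DihedralGroup.r_mul_sr, DihedralGroup.sr_mul_r, DihedralGroup.sr.injEq] at h1
        have h5 : ((2 : ℕ) : ZMod n) = 0 := by push_cast; linear_combination h1
        have := Nat.le_of_dvd two_pos ((ZMod.natCast_eq_zero_iff _ _).mp h5)
        omega
    have hl0 : l ≠ 0 := fun h0 => hc1 (by rw [h0]; exact DihedralGroup.r_zero)
    obtain ⟨i, hi, hi0⟩ : ∃ i : ZMod n, DihedralGroup.r i ∈ H ∧ i ≠ 0 := by
      by_contra hno
      push Not at hno
      haveI : Fintype H := Fintype.ofFinite _
      refine hH ?_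
      by_cases hs : ∃ i, DihedralGroup.sr i ∈ H
      · obtain ⟨i, hi⟩ := hs
        refine Subgroup.isCyclic_of_le (H := H) (H' := Subgroup.zpowers (DihedralGroup.sr i)) ?_
        rintro (x | x) hx
        · rw [hno x hx, DihedralGroup.r_zero]; exact one_mem _
        · have h1 := hno _ (show DihedralGroup.r (x - i) ∈ H by
            rw [← DihedralGroup.sr_mul_sr]; exact mul_mem hi hx)
          rw [sub_eq_zero.1 h1]; exact mem_zpowers _
      · push Not at hs
        refine Subgroup.isCyclic_of_le (H := H) (H' := Subgroup.zpowers (1 : DihedralGroup n)) ?_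
        rintro (x | x) hx
        · rw [hno x hx, DihedralGroup.r_zero]; exact one_mem _
        · exact absurd hx (hs x)
    have hm : orderOf (DihedralGroup.r i) ∣ 2 ^ (j + 1) := by
      have h1 := orderOf_dvd_natCard (DihedralGroup.r i)
      rw [DihedralGroup.nat_card] at h1
      exact h1.trans (dvd_of_eq (by rw [pow_succ', ← hn]))
    obtain ⟨m, -, hm⟩ := (Nat.dvd_prime_pow Nat.prime_two).1 hm
    obtain ⟨m, rfl⟩ : ∃ k, m = k + 1 := Nat.exists_eq_succ_of_ne_zero (fun h0 => by
      rw [h0, pow_zero, orderOf_eq_one_iff, ← DihedralGroup.r_zero, DihedralGroup.r.injEq] at hm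
      exact hi0 hm)
    have hy : (DihedralGroup.r i) ^ 2 ^ m ∈ H := pow_mem hi _
    have hy1 : (DihedralGroup.r i) ^ 2 ^ m ≠ 1 := fun h0 => by
      have h1 := orderOf_dvd_of_pow_eq_one h0
      rw [hm, Nat.pow_dvd_pow_iff_le_right Nat.one_lt_two] at h1
      omega
    have hy2 : (DihedralGroup.r i) ^ 2 ^ m * (DihedralGroup.r i) ^ 2 ^ m = 1 := by
      rw [← pow_add, ← two_mul, ← pow_succ', ← hm, pow_orderOf_eq_one]
    rw [DihedralGroup.r_pow, DihedralGroup.r_mul_r, ← DihedralGroup.r_zero, DihedralGroup.r.injEq] at hy2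
    rw [DihedralGroup.r_pow] at hy hy1
    rw [← DihedralGroup.r_zero, Ne, DihedralGroup.r.injEq] at hy1
    rwa [uniq _ _ hl hl0 hy2 hy1]

/-- The centre of a non-abelian simple group is trivial. -/
theorem index_centralizer_ne_one {G : Type*} [Group G] [IsSimpleGroup G] (hna : ¬ IsMulCommutative G)
    {c : G} (hc : c ≠ 1) : (centralizer ({c} : Set G)).index ≠ 1 := by
  intro h1
  rw [index_eq_one] at h1
  have hcc : c ∈ center G := mem_center_iff.2 fun g =>
    mem_centralizer_singleton_iff.1 (h1 ▸ mem_top g)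
  rcases IsSimpleGroup.eq_bot_or_eq_top_of_normal (center G) inferInstance with e | e
  · exact hc (mem_bot.1 (e ▸ hcc))
  · exact hna ⟨⟨fun x y => (mem_center_iff.1 (e ▸ mem_top x : x ∈ center G) y).symm⟩⟩

theorem not_comm_PSL2 {F : Type} [Field F] [Finite F] (h4 : 4 ≤ Nat.card F) :
    ¬ IsMulCommutative (PSL2 F) := fun hc => by
  haveI := CfsgLib.Linear.PSLTwo.isSimple h4
  exact CfsgLib.Linear.PSLTwo.not_solvable h4
    (IsSimpleGroup.comm_iff_isSolvable.1 fun a b => hc.is_comm.comm a b)

variable {F : Type} [Field F] [Fintype F]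

theorem sc_four (h4 : Fintype.card F = 4) : SC (PSL2 F) := by
  haveI : IsSimpleGroup (PSL2 F) :=
    CfsgLib.Linear.PSLTwo.isSimple (by rw [Nat.card_eq_fintype_card, h4])
  have hna := not_comm_PSL2 (F := F) (by rw [Nat.card_eq_fintype_card, h4])
  have h60 : Nat.card (PSL2 F) = 60 := by
    rw [CfsgLib.Linear.PSLTwo.card_eq, Nat.card_eq_fintype_card, h4]; norm_num
  refine sc_of_centralizers fun c hc H hH hle => ?_
  have hK := not_cyclic_mono hle hH
  have hmem : (centralizer ({c} : Set (PSL2 F))).index ∈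
      Set.range (fun g : PSL2 F => (centralizer ({g} : Set (PSL2 F))).index) := ⟨c, rfl⟩
  have hr := CfsgLib.PSL2Classes.range_even (F := F) (h4 ▸ by norm_num) (h4 ▸ le_rfl)
  rw [hr] at hmem
  simp only [h4, Set.mem_insert_iff, Set.mem_singleton_iff] at hmem
  simp only [Nat.reduceSub, Nat.reduceMul, Nat.reducePow, Nat.reduceAdd] at hmem
  have hmul := Subgroup.card_mul_index (centralizer ({c} : Set (PSL2 F)))
  rw [h60] at hmul
  rcases hmem with e | e | e | e
  · exact absurd e (index_centralizer_ne_one hna hc)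
  · rw [e] at hmul
    haveI : Fact (Nat.Prime 5) := ⟨Nat.prime_five⟩
    exact absurd (isCyclic_of_prime_card (p := 5) (α := centralizer ({c} : Set (PSL2 F))) (by omega)) hK
  · rw [e] at hmul
    have heq := eq_of_le_of_card_ge hle (by have := four_le_card hH; omega)
    rw [heq]; exact mem_centralizer_singleton_iff.2 rfl
  · rw [e] at hmul
    haveI : Fact (Nat.Prime 3) := ⟨Nat.prime_three⟩
    exact absurd (isCyclic_of_prime_card (p := 3) (α := centralizer ({c} : Set (PSL2 F))) (by omega)) hK

theorem sc_odd (h7 : 7 ≤ Fintype.card F) (k : ℕ) (hk3 : 3 ≤ k)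
    (hk : Fintype.card F = 2 ^ k + 1 ∨ Fintype.card F + 1 = 2 ^ k)
    (hp : (Fintype.card F).Prime ∨ Fintype.card F = 9) : SC (PSL2 F) := by
  have hodd : Odd (Fintype.card F) := by
    have h2 : Even (2 ^ k) := Nat.even_pow.2 ⟨even_two, by omega⟩
    rcases hk with h | h
    · rw [h]; exact h2.add_one
    · exact Nat.not_even_iff_odd.1 fun he => by
        have := Nat.even_add_one.1 (h ▸ h2); exact this he
  haveI : IsSimpleGroup (PSL2 F) :=
    CfsgLib.Linear.PSLTwo.isSimple (by rw [Nat.card_eq_fintype_card]; omega)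
  have hna := not_comm_PSL2 (F := F) (by rw [Nat.card_eq_fintype_card]; omega)
  obtain ⟨p, hpc⟩ := CharP.exists F
  obtain ⟨d, hpp, hqd⟩ := FiniteField.card F p
  haveI : Fact p.Prime := ⟨hpp⟩
  have hpq : p ∣ Fintype.card F := hqd ▸ dvd_pow_self p d.pos.ne'
  have hpodd : Odd p := hodd.of_dvd_nat hpq
  have hP := CfsgLib.PSL2Classes.card_P2_mul (F := F) hodd
  rw [CfsgLib.PSL2Classes.sq_sub_one] at hP
  refine sc_of_centralizers fun c hc H hH hle => ?_
  set K := centralizer ({c} : Set (PSL2 F)) with hKdef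
  have hK := not_cyclic_mono hle hH
  have hmem : K.index ∈ Set.range (fun g : PSL2 F => (centralizer ({g} : Set (PSL2 F))).index) :=
    ⟨c, rfl⟩
  rw [CfsgLib.PSL2Classes.range_odd hodd h7] at hmem
  simp only [Set.mem_insert_iff, Set.mem_singleton_iff] at hmem
  have hmul : 2 * (Nat.card K * K.index) =
      Fintype.card F * ((Fintype.card F + 1) * (Fintype.card F - 1)) := by
    rw [Subgroup.card_mul_index]; exact hP
  have hq2 : Fintype.card F % 2 = 1 := Nat.odd_iff.1 hodd
  obtain ⟨r, hr⟩ : ∃ r, Fintype.card F = 2 * r + 1 := hodd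
  -- the possible orders of the centralizer
  have hcard : Nat.card K = Fintype.card F ∨ (∃ i, Nat.card K = 2 ^ i) ∨
      (Odd (Nat.card K) ∧ ¬ p ∣ Nat.card K) := by
    have hhalf : Nat.card K = r ∨ Nat.card K = r + 1 →
        (∃ i, Nat.card K = 2 ^ i) ∨ (Odd (Nat.card K) ∧ ¬ p ∣ Nat.card K) := by
      intro hh
      have hnd : ¬ p ∣ Nat.card K := fun hd => by
        have h1 : p ∣ 2 * Nat.card K := hd.mul_left 2
        have h2 : p ∣ 1 := by
          rcases hh with e | e <;> rw [e] at h1
          · exact (Nat.dvd_add_right h1).1 (hr ▸ hpq)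
          · exact (Nat.dvd_add_right hpq).1 (by rw [hr, show 2 * r + 1 + 1 = 2 * (r + 1) by ring]; exact h1)
        exact hpp.not_dvd_one h2
      have hk1 : 2 ^ k = 2 * 2 ^ (k - 1) := by rw [← pow_succ']; congr 1; omega
      have hev : Even (2 ^ (k - 1)) := Nat.even_pow.2 ⟨even_two, by omega⟩
      rcases hk with hq | hq <;> rcases hh with e | e
      · exact Or.inl ⟨k - 1, by omega⟩
      · refine Or.inr ⟨?_, hnd⟩
        rw [e, show r = 2 ^ (k - 1) by omega]; exact hev.add_one
      · refine Or.inr ⟨Nat.not_even_iff_odd.1 fun he => ?_, hnd⟩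
        have h5 : Even (r + 1) := by rw [show r + 1 = 2 ^ (k - 1) by omega]; exact hev
        exact Nat.even_add_one.1 h5 (e ▸ he)
      · exact Or.inl ⟨k - 1, by omega⟩
    have hs1 : Fintype.card F + 1 = 2 * (r + 1) := by omega
    have hs2 : Fintype.card F - 1 = 2 * r := by omega
    have hs3 : Fintype.card F ^ 2 - 1 = 2 * (2 * (r * (r + 1))) := by
      rw [CfsgLib.PSL2Classes.sq_sub_one, hs1, hs2]; ring
    rw [hs1, hs2] at hmul
    rw [hs1, hs2, hs3] at hmem
    have hr3 : 3 ≤ r := by omega
    rcases hmem with e | e | e | e | e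
    · exact absurd e (index_centralizer_ne_one hna hc)
    · left
      rw [e, Nat.mul_div_cancel_left _ two_pos] at hmul
      exact Nat.eq_of_mul_eq_mul_right (m := 4 * (r * (r + 1))) (by positivity)
        (by linarith)
    · right; left
      split_ifs at e with hq4
      · rw [e, show Fintype.card F * (2 * (r + 1)) = 2 * (Fintype.card F * (r + 1)) by ring,
          Nat.mul_div_cancel_left _ two_pos] at hmul
        have hr2 : Nat.card K = 2 * r := Nat.eq_of_mul_eq_mul_right
          (m := 2 * (Fintype.card F * (r + 1))) (by positivity) (by linarith)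
        rcases hk with hq | hq
        · exact ⟨k, by omega⟩
        · exfalso
          have : 4 ∣ 2 ^ k := pow_dvd_pow 2 (show 2 ≤ k by omega)
          omega
      · rw [e, show Fintype.card F * (2 * r) = 2 * (Fintype.card F * r) by ring,
          Nat.mul_div_cancel_left _ two_pos] at hmul
        have hr2 : Nat.card K = 2 * (r + 1) := Nat.eq_of_mul_eq_mul_right
          (m := 2 * (Fintype.card F * r)) (by positivity) (by linarith)
        rcases hk with hq | hq
        · exfalso
          have : 4 ∣ 2 ^ k := pow_dvd_pow 2 (show 2 ≤ k by omega)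
          omega
        · exact ⟨k, by omega⟩
    · right
      rw [e] at hmul
      exact hhalf (Or.inr (Nat.eq_of_mul_eq_mul_right (m := 4 * (Fintype.card F * r)) (by positivity)
        (by linarith)))
    · right
      rw [e] at hmul
      exact hhalf (Or.inl (Nat.eq_of_mul_eq_mul_right (m := 4 * (Fintype.card F * (r + 1))) (by positivity)
        (by linarith)))
  have hcK : c ∈ K := mem_centralizer_singleton_iff.2 rfl
  rcases hcard with hcard | hcard
  · -- a Sylow subgroup for the defining prime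
    rcases hp with hp' | hp'
    · haveI : Fact (Fintype.card F).Prime := ⟨hp'⟩
      exact absurd (isCyclic_of_prime_card (α := K) hcard) hK
    · rw [hp'] at hcard
      have hd := Subgroup.card_dvd_of_le hle
      rw [hcard] at hd
      have h4 := four_le_card hH
      have h9 := Nat.le_of_dvd (by norm_num) hd
      have heq := eq_of_le_of_card_ge hle (by
        obtain ⟨w, hw⟩ := hd
        have h2w : w ≤ 2 := by nlinarith
        rcases w with _ | _ | _ | w <;> omega)
      rw [heq]; exact hcK
  have hKtop : K ≠ ⊤ := fun e => index_centralizer_ne_one hna hc (index_eq_one.2 e)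
  have hnp : ¬ p ∣ Nat.card K := by
    rcases hcard with ⟨i, hi⟩ | ⟨-, hnd⟩
    · rw [hi]
      exact fun hd => by
        have := (Nat.prime_dvd_prime_iff_eq hpp Nat.prime_two).1 (hpp.dvd_of_dvd_pow hd)
        exact absurd (this ▸ hpodd) (by decide)
    · exact hnd
  have hmult : ¬ (2 ∣ Nat.card K ∧ 3 ∣ Nat.card K) := by
    rintro ⟨h2, h3⟩
    rcases hcard with ⟨i, hi⟩ | ⟨ho, -⟩
    · rw [hi] at h3
      exact absurd ((Nat.prime_dvd_prime_iff_eq Nat.prime_three Nat.prime_two).1
        (Nat.prime_three.dvd_of_dvd_pow h3)) (by norm_num)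
    · exact (Nat.not_even_iff_odd.2 ho) (even_iff_two_dvd.2 h2)
  rcases CfsgLib.Linear.PSLTwo.proper_cases p K hKtop with ⟨P, hd, -⟩ | ⟨hcy, -⟩ |
    ⟨n, hn2, -, -, hn, ⟨e⟩⟩ | ⟨-, hn, -⟩ | ⟨-, hn, -⟩ | ⟨-, -, hn, -⟩ | ⟨f, m, hf, -, -, hn⟩
  · exact absurd hd hnp
  · exact absurd hcy hK
  · -- a dihedral centralizer
    rcases hcard with ⟨i, hi⟩ | ⟨ho, -⟩
    swap; · exact absurd ho (Nat.not_odd_iff_even.2 (hn ▸ even_two_mul n))
    obtain ⟨i, rfl⟩ : ∃ i', i = i' + 1 := Nat.exists_eq_succ_of_ne_zero (fun h0 => by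
      rw [h0, pow_zero] at hi; omega)
    have hn' : n = 2 ^ i := by rw [pow_succ'] at hi; omega
    have hm := dihedral_center_mem hn' hn2 ((H.subgroupOf K).map e.toMonoidHom)
      (fun hcy => hH ((((subgroupOfEquivOfLe hle).symm.trans (e.subgroupMap _))).isCyclic.2 hcy))
      (c := e ⟨c, hcK⟩) (fun h1 => hc (congrArg Subtype.val (e.injective (h1.trans (map_one e).symm))))
      (fun x => by
        obtain ⟨x, rfl⟩ := e.surjective x
        rw [← map_mul, ← map_mul]
        exact congrArg e (Subtype.ext (mem_centralizer_singleton_iff.1 x.2).symm))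
    obtain ⟨y, hy, hye⟩ := hm
    have : y = ⟨c, hcK⟩ := e.injective hye
    rw [this] at hy
    exact mem_subgroupOf.1 hy
  · exact absurd ⟨⟨6, hn⟩, ⟨4, hn⟩⟩ hmult
  · exact absurd ⟨⟨12, hn⟩, ⟨8, hn⟩⟩ hmult
  · exact absurd ⟨⟨30, hn⟩, ⟨20, hn⟩⟩ hmult
  · refine absurd ?_ hnp
    have hpf : p ∣ p ^ f := dvd_pow_self p (by omega)
    rcases hn with ⟨h1, -⟩ | ⟨-, h1, -⟩
    · rw [h1]; exact hpf.mul_right _
    · exact (Nat.Coprime.dvd_mul_left
        ((Nat.coprime_primes hpp Nat.prime_two).2 fun e2 => absurd (e2 ▸ hpodd) (by decide))).1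
        (h1 ▸ hpf.mul_right _)

theorem converse {G : Type*} [Group G] [Finite G] [IsSimpleGroup G] (hna : ¬ IsMulCommutative G)
    (hF : Fintype.card F = 4 ∨ Fintype.card F = 9 ∨ ((Fintype.card F).Prime ∧
      ∃ k : ℕ, Fintype.card F = 2 ^ k + 1 ∨ Fintype.card F = 2 ^ k - 1))
    (e : G ≃* Matrix.ProjectiveSpecialLinearGroup (Fin 2) F) : SC G := by
  rcases hF with h | h | ⟨hp, k, hk⟩
  · exact sc_of_equiv e (sc_four h)
  · exact sc_of_equiv e (sc_odd (h ▸ by norm_num) 3 le_rfl (Or.inl h) (Or.inr h))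
  have hsmall : 4 ≤ Fintype.card F := by
    by_contra hlt
    have hs : Group.IsSolvable (PSL2 F) :=
      CfsgLib.Linear.PSLTwo.solvable_small _ Nat.card_eq_fintype_card (by omega)
    haveI : Group.IsSolvable G := solvable_of_solvable_injective (f := e.toMonoidHom) e.injective
    exact hna ⟨⟨IsSimpleGroup.comm_iff_isSolvable.2 inferInstance⟩⟩
  have hk' : Fintype.card F = 2 ^ k + 1 ∨ Fintype.card F + 1 = 2 ^ k := by
    rcases hk with h | h
    · exact Or.inl h
    · exact Or.inr (by omega)
  by_cases h7 : 7 ≤ Fintype.card F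
  · refine sc_of_equiv e (sc_odd h7 k ?_ hk' (Or.inl hp))
    by_contra hk3
    have : 2 ^ k ≤ 4 := (Nat.pow_le_pow_right (show 0 < 2 by norm_num) (show k ≤ 2 by omega)).trans_eq (by norm_num)
    omega
  · have h5 : Fintype.card F = 5 := by
      rcases (by omega : Fintype.card F = 4 ∨ Fintype.card F = 5 ∨ Fintype.card F = 6) with h | h | h
      · rw [h] at hp; norm_num at hp
      · exact h
      · rw [h] at hp; norm_num at hp
    have h60 : Nat.card G = 60 := by
      rw [Nat.card_congr e.toEquiv]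
      have hP : 2 * Nat.card (Matrix.ProjectiveSpecialLinearGroup (Fin 2) F) = _ :=
        CfsgLib.PSL2Classes.card_P2_mul (F := F) (by rw [h5]; decide)
      rw [h5] at hP
      norm_num at hP
      omega
    obtain ⟨e1⟩ := Cfsg.Agent.S0494.result h60
    haveI : Fact (Nat.Prime 2) := ⟨Nat.prime_two⟩
    letI : Fintype (GaloisField 2 2) := Fintype.ofFinite _
    have h4 : Fintype.card (GaloisField 2 2) = 4 := by
      rw [← Nat.card_eq_fintype_card, GaloisField.card 2 2 two_ne_zero]; norm_num
    haveI : IsSimpleGroup (PSL2 (GaloisField 2 2)) :=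
      CfsgLib.Linear.PSLTwo.isSimple (by rw [Nat.card_eq_fintype_card, h4])
    obtain ⟨e2⟩ := Cfsg.Agent.S0494.result (G := PSL2 (GaloisField 2 2))
      (by rw [CfsgLib.Linear.PSLTwo.card_eq, Nat.card_eq_fintype_card, h4]; norm_num)
    exact sc_of_equiv (e1.trans e2.symm) (sc_four h4)

end CfsgLib.SelfCentNC
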