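import Cfsg.Agent.SelfCentNC.Sylow

/-!
# Simple groups with self-centralizing non-cyclic subgroups: identification
-/

set_option autoImplicit false

namespace CfsgLib.SelfCentNC

open Subgroup

universe u

variable {G : Type u} [Group G] [Finite G] [IsSimpleGroup G] (hna : ¬ IsMulCommutative G)

include hna in
theorem classify (h : SC G) :
    ∃ (F : Type) (_ : Field F) (_ : Fintype F),
      (Fintype.card F = 4 ∨ Fintype.card F = 9 ∨ ((Fintype.card F).Prime ∧
        ∃ k : ℕ, Fintype.card F = 2 ^ k + 1 ∨ Fintype.card F = 2 ^ k - 1)) ∧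
      Nonempty (G ≃* Matrix.ProjectiveSpecialLinearGroup (Fin 2) F) := by
  haveI : Fact (Nat.Prime 2) := ⟨Nat.prime_two⟩
  obtain ⟨S⟩ : Nonempty (Sylow 2 G) := inferInstance
  obtain ⟨n, hn, hD⟩ := (sylow_cases hna h S).resolve_right (not_quasiDihedral hna h S)
  obtain ⟨t, a, ht, ha, hat, htS, haS, htZ, hV⟩ := exists_klein hna h S
  set C := centralizer ({t} : Set G) with hC
  have hc : Commute a t := htZ a haS
  have haa := CfsgLib.Invol.mul_self_eq_one ha
  have hai : a⁻¹ = a := inv_eq_of_mul_eq_one_right haa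
  have haC : a ∈ C := mem_centralizer_singleton_iff.2 hc.eq
  have hO : (Cfsg.oddCore C).map C.subtype = ⊥ := by
    rw [eq_bot_iff]
    rintro _ ⟨o, ho, rfl⟩
    have hoo : Odd (orderOf (o : G)) := by
      rw [Subgroup.orderOf_coe]; exact CfsgLib.IsoApps.odd_of_mem_oddCore ho
    have hot : Commute (o : G) t := mem_centralizer_singleton_iff.1 o.2
    set d : C := ⟨a, haC⟩ * o * ⟨a, haC⟩⁻¹ * o⁻¹ with hd
    have hdO : d ∈ Cfsg.oddCore C :=
      mul_mem ((inferInstance : (Cfsg.oddCore C).Normal).conj_mem o ho _) (inv_mem ho)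
    by_cases hd1 : d = 1
    · have hoa : Commute (o : G) a := by
        have h1 : a * (o : G) * a⁻¹ * (o : G)⁻¹ = 1 := congrArg Subtype.val hd1
        rw [mul_inv_eq_one, mul_inv_eq_iff_eq_mul] at h1
        exact h1.symm
      rw [mem_bot]
      rcases hV _ hot hoa with e | e | e | e
      · exact e
      · rw [e, ht] at hoo; exact absurd hoo (by decide)
      · rw [e, ha] at hoo; exact absurd hoo (by decide)
      · have h2 : orderOf (o : G) ∣ 2 := orderOf_dvd_of_pow_eq_one (by
          rw [e, hc.symm.mul_pow, pow_two, pow_two, haa, CfsgLib.Invol.mul_self_eq_one ht, one_mul])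
        rcases (Nat.dvd_prime Nat.prime_two).1 h2 with h3 | h3
        · exact orderOf_eq_one_iff.1 h3
        · rw [h3] at hoo; exact absurd hoo (by decide)
    · exfalso
      refine key h ht ha hc.symm hat (d := (d : G)) (mem_centralizer_singleton_iff.1 d.2).symm
        (fun e => hd1 (Subtype.ext e)) ?_ ?_
      · rw [Subgroup.orderOf_coe]; exact CfsgLib.IsoApps.odd_of_mem_oddCore hdO
      · show a * (a * (o : G) * a⁻¹ * (o : G)⁻¹) * a⁻¹ = (a * (o : G) * a⁻¹ * (o : G)⁻¹)⁻¹
        simp only [hai, mul_inv_rev, inv_inv]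
        simp only [← mul_assoc, haa, one_mul]
  obtain ⟨F, hF, hF', hodd, ⟨e⟩⟩ := Cfsg.Agent.S0508.result S n hn hD t ht htS htZ _ rfl
    (fun h1 => absurd hO h1)
    (fun s _ hs => by
      exfalso
      refine hs (mem_centralizer_iff.2 fun o ho => ?_)
      rw [SetLike.mem_coe, hO, mem_bot] at ho
      rw [ho, one_mul, mul_one])
    (fun Y hY hY' => absurd (le_bot_iff.1 (hO ▸ hY)) hY')
  refine ⟨F, hF, hF', ?_, ⟨e⟩⟩
  -- the centralizer of `t` is a two-group
  obtain ⟨j, hj⟩ : ∃ j : ℕ, Nat.card C = 2 ^ j := by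
    obtain ⟨N, hN, hNodd, k, hk⟩ := Cfsg.Agent.S0514.result S n hn hD t ht
    have hbot : Cfsg.oddCore C = ⊥ := (map_eq_bot_iff_of_injective _ C.subtype_injective).1 hO
    have hNb : N = ⊥ :=
      le_bot_iff.1 (hbot ▸ Solvable.le_pPrimeCore 2 hN (Nat.coprime_two_right.mpr hNodd))
    exact ⟨k, by rw [← hk, hNb, index_bot]⟩
  set z := e t with hz
  have hz1 : z ≠ 1 := fun h1 => CfsgLib.Invol.ne_one ht (e.injective (h1.trans (map_one e).symm))
  have hzz : z * z = 1 := by rw [hz, ← map_mul, CfsgLib.Invol.mul_self_eq_one ht, map_one]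
  have hcard : Nat.card (centralizer ({z} : Set (CfsgLib.Linear.SmallSub.P2 F))) = 2 ^ j := by
    rw [← hj]
    refine (Nat.card_congr (e.toEquiv.subtypeEquiv fun g => ?_)).symm
    show g ∈ C ↔ e g ∈ centralizer {e t}
    rw [hC, mem_centralizer_singleton_iff, mem_centralizer_singleton_iff, ← map_mul, ← map_mul,
      e.injective.eq_iff]
  have hidx := CfsgLib.PSL2Classes.index_involution hodd hzz hz1
  have hP := CfsgLib.PSL2Classes.card_P2_mul hodd
  rw [← Subgroup.card_mul_index (centralizer ({z} : Set (CfsgLib.Linear.SmallSub.P2 F))), hcard,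
    mul_left_comm, hidx, CfsgLib.PSL2Classes.sq_sub_one] at hP
  have hq1 := Fintype.one_lt_card (α := F)
  have hq : Fintype.card F = 2 ^ j + 1 ∨ Fintype.card F + 1 = 2 ^ j := by
    split_ifs at hP with hq4
    · left
      have : 2 ^ j = Fintype.card F - 1 :=
        Nat.eq_of_mul_eq_mul_right (show 0 < Fintype.card F * (Fintype.card F + 1) by positivity)
          (by rw [hP]; ring)
      omega
    · right
      have : 2 ^ j = Fintype.card F + 1 :=
        Nat.eq_of_mul_eq_mul_right (show 0 < Fintype.card F * (Fintype.card F - 1) from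
          Nat.mul_pos (by omega) (by omega)) (by rw [hP]; ring)
      omega
  obtain ⟨p, hpc⟩ := CharP.exists F
  obtain ⟨d, hp, hqd⟩ := FiniteField.card F p
  have hp2 : p ≠ 2 := fun e2 => by
    rw [hqd, e2] at hodd
    exact (Nat.not_even_iff_odd.2 hodd) (even_iff_two_dvd.2 (dvd_pow_self 2 d.pos.ne'))
  have hd1 : 1 ≤ (d : ℕ) := d.pos
  rcases hq with hq | hq
  · rcases Cfsg.Agent.S3370.fermat_exp hp hp2 hd1 (hqd ▸ hq) with h1 | ⟨h3, h1⟩
    · exact Or.inr (Or.inr ⟨by rw [hqd, h1, pow_one]; exact hp, j, Or.inl hq⟩)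
    · exact Or.inr (Or.inl (by rw [hqd, h3, h1]; norm_num))
  · have hj2 : 2 ≤ j := by
      by_contra hj'
      have : 2 ^ j ≤ 2 := (Nat.pow_le_pow_right (show 0 < 2 by norm_num) (show j ≤ 1 by omega)).trans_eq (by norm_num)
      omega
    have h1 := Cfsg.Agent.S3370.mersenne_exp hp hp2 hj2 (hqd ▸ hq.symm)
    exact Or.inr (Or.inr ⟨by rw [hqd, h1, pow_one]; exact hp, j, Or.inr (by omega)⟩)

end CfsgLib.SelfCentNC
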