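import Cfsg.Agent.FGSA.RankTwoAut
import Cfsg.Agent.S0071
import Cfsg.Agent.ZStar.Final
import Cfsg.Agent.Invol.BaerSuzuki
import Cfsg.Agent.Invol.CentralizerPattern
import Cfsg.Agent.S0112
import Cfsg.Agent.S0115
import Cfsg.Agent.S4399
import Cfsg.Agent.S1203
import Cfsg.Agent.S1205
import Cfsg.Agent.S1206
import Cfsg.Agent.S1207
import Cfsg.Agent.S3116
import Cfsg.Agent.S0508
import Cfsg.Agent.S3370
import Cfsg.Agent.GLElem.PSL2Classes

/-!
# Simple groups with self-centralizing non-cyclic subgroups: the forward direction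
-/

set_option autoImplicit false

namespace CfsgLib.SelfCentNC

open Subgroup
open scoped Pointwise

universe u

variable {G : Type u} [Group G] [Finite G]

/-- Every non-cyclic subgroup contains its centralizer. -/
def SC (G : Type u) [Group G] : Prop :=
  ∀ H : Subgroup G, ¬ IsCyclic ↥H → centralizer (H : Set G) ≤ H

/-- An elementary abelian subgroup has order at most `p ^ 2`. -/
theorem card_le (h : SC G) {p : ℕ} [hp : Fact p.Prime] {E : Subgroup G} (hE : Cfsg.IsElementaryAbelian p E) :
    Nat.card E ≤ p ^ 2 := by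
  by_contra hlt
  push Not at hlt
  have hEp : IsPGroup p E := fun x => ⟨1, Subtype.ext (by push_cast; rw [pow_one]; exact hE.2 x x.2)⟩
  obtain ⟨k, hk⟩ := IsPGroup.iff_card.1 hEp
  have hk2 : 2 < k := (Nat.pow_lt_pow_iff_right hp.out.one_lt).1 (hk ▸ hlt)
  obtain ⟨A, hAE, hA⟩ : ∃ A ≤ E, Nat.card A = p ^ 2 := by
    obtain ⟨A, hA⟩ := Sylow.exists_subgroup_card_pow_prime (G := E) p (hk ▸ pow_dvd_pow p hk2.le)
    exact ⟨A.map E.subtype, map_subtype_le A, by rw [card_map_of_injective E.subtype_injective, hA]⟩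
  have hnc : ¬ IsCyclic A := by
    intro hc
    obtain ⟨g, hg⟩ := IsCyclic.exists_ofOrder_eq_natCard (α := A)
    have h1 : orderOf g ∣ p := by
      refine orderOf_dvd_of_pow_eq_one (Subtype.ext ?_)
      push_cast
      exact hE.2 g (hAE g.2)
    rw [hg, hA] at h1
    have := Nat.le_of_dvd hp.out.pos h1
    have := hp.out.two_le
    nlinarith
  have hle : E ≤ A := by
    refine le_trans ?_ (h A hnc)
    intro e he
    rw [mem_centralizer_iff]
    intro a ha
    exact congrArg Subtype.val (hE.1.is_comm.comm ⟨a, hAE ha⟩ ⟨e, he⟩)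
  have := Subgroup.card_le_of_le hle
  omega

/-- The key configuration: no odd element commuting with an involution is inverted by another one. -/
theorem key (h : SC G) {t a d : G} (ht : orderOf t = 2) (ha : orderOf a = 2) (hta : Commute t a) (hne : a ≠ t)
    (hdt : Commute t d) (hd1 : d ≠ 1) (hdo : Odd (orderOf d)) (hinv : a * d * a⁻¹ = d⁻¹) : False := by
  have haa : a * a = 1 := CfsgLib.Invol.mul_self_eq_one ha
  have hainv : a⁻¹ = a := inv_eq_of_mul_eq_one_right haa
  have hdd : d⁻¹ ≠ d := by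
    intro e
    have h2 : orderOf d ∣ 2 := orderOf_dvd_of_pow_eq_one (by rw [pow_two]; nth_rw 1 [← e]; exact inv_mul_cancel d)
    rcases (Nat.dvd_prime Nat.prime_two).1 h2 with h1 | h1
    · exact hd1 (orderOf_eq_one_iff.1 h1)
    · rw [h1] at hdo; exact absurd hdo (by decide)
  set H : Subgroup G := zpowers d ⊔ zpowers a with hH
  have hdH : d ∈ H := mem_sup_left (mem_zpowers d)
  have haH : a ∈ H := mem_sup_right (mem_zpowers a)
  have hnc : ¬ IsCyclic H := by
    intro hc
    haveI := hc
    have e := congrArg Subtype.val (IsCyclic.commGroup.mul_comm (⟨a, haH⟩ : H) ⟨d, hdH⟩)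
    apply hdd
    rw [← hinv, show a * d = d * a from e, mul_inv_cancel_right]
  have htH : t ∈ H := by
    refine h H hnc ?_
    rw [mem_centralizer_iff]
    intro x hx
    have : H ≤ centralizer ({t} : Set G) := sup_le
      (zpowers_le.2 (mem_centralizer_singleton_iff.2 hdt.symm.eq))
      (zpowers_le.2 (mem_centralizer_singleton_iff.2 hta.symm.eq))
    exact mem_centralizer_singleton_iff.1 (this hx)
  -- every element of `H` is `d ^ i` or `d ^ i * a`
  have hnorm : zpowers a ≤ normalizer (zpowers d : Set G) := by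
    rw [zpowers_le, mem_normalizer_iff]
    have hmap : ∀ w ∈ zpowers d, a * w * a⁻¹ ∈ zpowers d := by
      rintro _ ⟨i, rfl⟩
      show a * d ^ i * a⁻¹ ∈ zpowers d
      rw [← conj_zpow, hinv]
      exact zpow_mem (inv_mem (mem_zpowers d)) i
    intro w
    refine ⟨hmap w, fun hw => ?_⟩
    have := hmap _ hw
    rw [show a * (a * w * a⁻¹) * a⁻¹ = (a * a) * w * (a * a)⁻¹ by group, haa] at this
    simpa using this
  have hset : t ∈ ((zpowers d : Subgroup G) : Set G) * (zpowers a : Set G) := by
    rw [← coe_mul_of_right_le_normalizer_left _ _ hnorm]; exact htH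
  obtain ⟨u, hu, v, hv, huv⟩ := Set.mem_mul.1 hset
  obtain ⟨i, rfl⟩ := mem_zpowers_iff.1 hu
  obtain ⟨j, rfl⟩ := mem_zpowers_iff.1 hv
  rcases Int.even_or_odd j with ⟨m, hm⟩ | ⟨m, hm⟩
  · have hv1 : a ^ j = 1 := by
      rw [hm, ← two_mul, zpow_mul, zpow_two, haa, one_zpow]
    rw [hv1, mul_one] at huv
    have hd2 : orderOf t ∣ orderOf d := orderOf_dvd_of_pow_eq_one (by
      rw [← huv, ← zpow_natCast, ← zpow_mul, mul_comm, zpow_mul, zpow_natCast, pow_orderOf_eq_one, one_zpow])
    rw [ht] at hd2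
    exact (Nat.not_even_iff_odd.2 hdo) (even_iff_two_dvd.2 hd2)
  · have hv1 : a ^ j = a := by
      rw [hm, zpow_add, zpow_mul, zpow_two, haa, one_zpow, zpow_one, one_mul]
    rw [hv1] at huv
    have : Commute a d := by
      have h1 : a = (d ^ i)⁻¹ * t := by rw [← huv, inv_mul_cancel_left]
      rw [h1]
      exact ((Commute.refl d).zpow_left i).inv_left.mul_left hdt
    apply hdd
    rw [← hinv, this.eq, mul_inv_cancel_right]

variable [IsSimpleGroup G] (hna : ¬ IsMulCommutative G)

include hna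

theorem not_hasNormalPComplement {p : ℕ} [Fact p.Prime] (hp : p ∣ Nat.card G) :
    ¬ Cfsg.HasNormalPComplement p G := by
  rintro ⟨P, N, hN, hNP⟩
  rcases IsSimpleGroup.eq_bot_or_eq_top_of_normal N hN with h | h
  · have hc := hNP.card_mul
    rw [h, card_bot, one_mul] at hc
    obtain ⟨k, hk⟩ := IsPGroup.iff_card.1 P.2
    haveI := (IsPGroup.of_card (p := p) (G := G) (n := k) (hc.symm.trans hk)).isNilpotent
    exact hna ⟨⟨IsSimpleGroup.comm_iff_isSolvable.2 inferInstance⟩⟩
  · subst h
    exact P.ne_bot_of_dvd_card hp (Subgroup.isComplement'_top_left.1 hNP)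

theorem not_index_two {K : Subgroup G} (hK : K.index = 2) : False := by
  haveI := Subgroup.normal_of_index_eq_two hK
  rcases IsSimpleGroup.eq_bot_or_eq_top_of_normal K inferInstance with h | h
  · rw [h, index_bot] at hK
    haveI : Fact (Nat.Prime 2) := ⟨Nat.prime_two⟩
    haveI : IsCyclic G := isCyclic_of_prime_card (p := 2) hK
    exact hna ⟨⟨fun a b => IsCyclic.commGroup.mul_comm a b⟩⟩
  · rw [h, index_top] at hK; omega

theorem even_card (h : SC G) : Even (Nat.card G) := by
  rw [← Nat.not_odd_iff_even]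
  intro hodd
  haveI : Nontrivial G := IsSimpleGroup.toNontrivial
  set p := (Nat.card G).minFac with hp
  haveI : Fact p.Prime := ⟨Nat.minFac_prime Finite.one_lt_card.ne'⟩
  have hpd : p ∣ Nat.card G := Nat.minFac_dvd _
  have hp2 : p ≠ 2 := fun e => (Nat.not_even_iff_odd.2 hodd) (even_iff_two_dvd.2 (e ▸ hpd))
  obtain ⟨P⟩ : Nonempty (Sylow p G) := inferInstance
  refine not_hasNormalPComplement hna hpd ?_
  obtain ⟨N, hN, hNP⟩ := (Cfsg.Agent.S0071.result P).2 fun Q hQ g hg hgc => by
    let f : MulAut Q := Q.normalizerMonoidHom ⟨g, hg⟩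
    suffices hf : f = 1 by
      have h1 : (⟨g, hg⟩ : normalizer (Q : Set G)) ∈ Q.normalizerMonoidHom.ker := hf
      rw [normalizerMonoidHom_ker, mem_subgroupOf] at h1
      exact h1
    by_contra hf
    obtain ⟨q, hq, hqd⟩ := Nat.exists_prime_and_dvd (n := orderOf f) (fun e => hf (orderOf_eq_one_iff.1 e))
    have hfg : orderOf f ∣ orderOf g := by
      rw [← Subgroup.orderOf_mk (H := normalizer (Q : Set G)) g hg]
      exact orderOf_map_dvd Q.normalizerMonoidHom _
    have hqp : q ≠ p := fun e => (Fact.out : p.Prime).not_dvd_one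
      (hgc ▸ Nat.dvd_gcd (e ▸ hqd.trans hfg) dvd_rfl)
    have hlt := (CfsgLib.FGSA.RankTwoAut.prime_dvd (p := p) hp2 (P.2.to_le hQ) (fun E hE => by
      refine le_trans (le_of_eq ?_) (card_le h (E := E.map Q.subtype) ?_)
      · rw [card_map_of_injective Q.subtype_injective]
      · exact ⟨⟨⟨by
          rintro ⟨_, a, ha, rfl⟩ ⟨_, b, hb, rfl⟩
          exact Subtype.ext (congrArg (fun w : E => ((w : Q) : G)) (hE.1.is_comm.comm ⟨a, ha⟩ ⟨b, hb⟩))⟩⟩, by
          rintro _ ⟨a, ha, rfl⟩
          exact congrArg Subtype.val (hE.2 a ha)⟩) hq hqp (hqd.trans (orderOf_dvd_natCard f))).2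
    exact absurd (Nat.minFac_le_of_dvd hq.two_le (hqd.trans (hfg.trans (orderOf_dvd_natCard g)))) (by omega)
  exact ⟨P, N, hN, hNP⟩

/-- The Sylow `2`-subgroup contains a self-centralizing four-group through a central involution. -/
theorem exists_klein (h : SC G) (S : Sylow 2 G) :
    ∃ t a : G, orderOf t = 2 ∧ orderOf a = 2 ∧ a ≠ t ∧ t ∈ (S : Subgroup G) ∧ a ∈ (S : Subgroup G) ∧
      (∀ s ∈ (S : Subgroup G), s * t = t * s) ∧
      (∀ g : G, Commute g t → Commute g a → g = 1 ∨ g = t ∨ g = a ∨ g = t * a) := by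
  haveI : Fact (Nat.Prime 2) := ⟨Nat.prime_two⟩
  have h2 : 2 ∣ Nat.card G := even_iff_two_dvd.1 (even_card hna h)
  obtain ⟨t, ht, htS, htZ⟩ : ∃ t : G, orderOf t = 2 ∧ t ∈ (S : Subgroup G) ∧
      ∀ s ∈ (S : Subgroup G), s * t = t * s := by
    haveI : Nontrivial (S : Subgroup G) := (nontrivial_iff_ne_bot _).2 (S.ne_bot_of_dvd_card h2)
    haveI := IsPGroup.center_nontrivial S.2
    have hdvd : 2 ∣ Nat.card (center (S : Subgroup G)) := by
      obtain ⟨k, hk⟩ := IsPGroup.iff_card.1 (S.2.to_subgroup (center (S : Subgroup G)))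
      rw [hk]
      refine dvd_pow_self 2 fun e => ?_
      rw [e, pow_zero] at hk
      have := Finite.one_lt_card (α := center (S : Subgroup G))
      omega
    obtain ⟨⟨z, hzc⟩, hz⟩ := exists_prime_orderOf_dvd_card' (G := center (S : Subgroup G)) 2 hdvd
    refine ⟨(z : G), ((Subgroup.orderOf_coe z).trans
      (Subgroup.orderOf_coe (⟨z, hzc⟩ : center (S : Subgroup G)))).trans hz, z.2, fun s hs => ?_⟩
    exact congrArg Subtype.val (mem_center_iff.1 hzc ⟨s, hs⟩)
  obtain ⟨a, ha, haS, hat⟩ : ∃ a : G, orderOf a = 2 ∧ a ∈ (S : Subgroup G) ∧ a ≠ t := by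
    by_contra hno
    push Not at hno
    obtain ⟨N, hN, hNodd, hcomm⟩ := CfsgLib.ZStar.zstar_of_sylow S ht fun g hg =>
      hno _ ((show orderOf (g * t * g⁻¹) = orderOf t from MulEquiv.orderOf_eq (MulAut.conj g) t).trans ht) hg
    rcases IsSimpleGroup.eq_bot_or_eq_top_of_normal N hN with e | e
    · have hc : t ∈ center G := mem_center_iff.2 fun g => by
        have h1 := hcomm g
        rw [e, mem_bot, mul_inv_eq_one, mul_inv_eq_iff_eq_mul] at h1
        exact h1.symm
      rcases IsSimpleGroup.eq_bot_or_eq_top_of_normal (center G) inferInstance with e' | e'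
      · rw [e', mem_bot] at hc
        rw [hc, orderOf_one] at ht; omega
      · exact hna ⟨⟨fun x y => (mem_center_iff.1 (e' ▸ mem_top x : x ∈ center G) y).symm⟩⟩
    · rw [e, card_top] at hNodd
      exact (Nat.not_even_iff_odd.2 hNodd) (even_iff_two_dvd.2 h2)
  have htt := CfsgLib.Invol.mul_self_eq_one ht
  have haa := CfsgLib.Invol.mul_self_eq_one ha
  have hat' : a * t = t * a := htZ a haS
  have ha1 : a ≠ 1 := CfsgLib.Invol.ne_one ha
  have ht1 : t ≠ 1 := CfsgLib.Invol.ne_one ht
  set V : Subgroup G :=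
    { carrier := {g | g = 1 ∨ g = t ∨ g = a ∨ g = t * a}
      one_mem' := Or.inl rfl
      mul_mem' := by
        intro x y hx hy
        simp only [Set.mem_setOf_eq] at hx hy ⊢
        have e1 : t * (t * a) = a := by rw [← mul_assoc, htt, one_mul]
        have e2 : a * (t * a) = t := by rw [← mul_assoc, hat', mul_assoc, haa, mul_one]
        have e3 : t * a * t = a := by rw [mul_assoc, hat', e1]
        have e4 : t * a * a = t := by rw [mul_assoc, haa, mul_one]
        have e5 : t * a * (t * a) = 1 := by rw [mul_assoc, e2, htt]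
        rcases hx with rfl | rfl | rfl | rfl <;> rcases hy with rfl | rfl | rfl | rfl <;>
          simp only [one_mul, mul_one, htt, haa, e1, e2, e3, e4, e5, hat', true_or, or_true]
      inv_mem' := by
        intro x hx
        simp only [Set.mem_setOf_eq] at hx ⊢
        have ti : t⁻¹ = t := inv_eq_of_mul_eq_one_right htt
        have ai : a⁻¹ = a := inv_eq_of_mul_eq_one_right haa
        rcases hx with rfl | rfl | rfl | rfl <;>
          simp only [inv_one, mul_inv_rev, ti, ai, hat', true_or, or_true] } with hV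
  have hnc : ¬ IsCyclic V := by
    intro hc
    haveI := hc
    haveI : Fintype V := Fintype.ofFinite V
    classical
    have h3 := IsCyclic.card_pow_eq_one_le (α := V) (n := 2) two_pos
    have hsub : ({⟨1, Or.inl rfl⟩, ⟨t, Or.inr (Or.inl rfl)⟩, ⟨a, Or.inr (Or.inr (Or.inl rfl))⟩} : Finset V) ⊆
        Finset.univ.filter (fun x : V => x ^ 2 = 1) := by
      intro x hx
      simp only [Finset.mem_insert, Finset.mem_singleton] at hx
      rw [Finset.mem_filter]
      refine ⟨Finset.mem_univ _, Subtype.ext ?_⟩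
      rcases hx with rfl | rfl | rfl <;> simp [pow_two, htt, haa]
    have h4 := (Finset.card_le_card hsub).trans h3
    rw [Finset.card_insert_of_notMem, Finset.card_pair] at h4
    · omega
    · exact fun e => hat (congrArg Subtype.val e).symm
    · simp only [Finset.mem_insert, Finset.mem_singleton, not_or]
      exact ⟨fun e => ht1 (congrArg Subtype.val e).symm, fun e => ha1 (congrArg Subtype.val e).symm⟩
  refine ⟨t, a, ht, ha, hat, htS, haS, htZ, fun g hgt hga => h V hnc ?_⟩
  rw [mem_centralizer_iff]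
  rintro x (rfl | rfl | rfl | rfl)
  · simp
  · exact hgt.symm.eq
  · exact hga.symm.eq
  · exact (hgt.mul_right hga).symm.eq

end CfsgLib.SelfCentNC
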