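import Cfsg.Agent.SelfCentNC.Forward
import Cfsg.Agent.S0218
import Cfsg.Agent.S0514
import Cfsg.Agent.Invol.IsolatedApps

/-!
# Simple groups with self-centralizing non-cyclic subgroups: the Sylow two-subgroup
-/

set_option autoImplicit false

namespace CfsgLib.SelfCentNC

open Subgroup
open scoped Pointwise

universe u

variable {G : Type u} [Group G] [Finite G]

theorem mem_pair_centralizer {t a g : G} :
    g ∈ centralizer ({t, a} : Set G) ↔ Commute g t ∧ Commute g a := by
  rw [mem_centralizer_iff]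
  simp only [Set.mem_insert_iff, Set.mem_singleton_iff, forall_eq_or_imp, forall_eq]
  exact ⟨fun ⟨h1, h2⟩ => ⟨h1.symm, h2.symm⟩, fun ⟨h1, h2⟩ => ⟨h1.eq.symm, h2.eq.symm⟩⟩

variable {t a : G} (ht : orderOf t = 2) (ha : orderOf a = 2) (hat : a ≠ t) (hc : Commute a t)
  (hV : ∀ g : G, Commute g t → Commute g a → g = 1 ∨ g = t ∨ g = a ∨ g = t * a)

include hc hV in
theorem pair_cases (g : G) : g ∈ centralizer ({t, a} : Set G) ↔ g = 1 ∨ g = t ∨ g = a ∨ g = t * a := by
  rw [mem_pair_centralizer]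
  refine ⟨fun h => hV g h.1 h.2, ?_⟩
  rintro (rfl | rfl | rfl | rfl)
  · exact ⟨Commute.one_left _, Commute.one_left _⟩
  · exact ⟨Commute.refl _, hc.symm⟩
  · exact ⟨hc, Commute.refl _⟩
  · exact ⟨(Commute.refl t).mul_left hc, hc.symm.mul_left (Commute.refl a)⟩

include ht ha hat hc hV in
theorem pair_klein : IsKleinFour (centralizer ({t, a} : Set G)) := by
  have hm := pair_cases hc hV
  have htt := CfsgLib.Invol.mul_self_eq_one ht
  have haa := CfsgLib.Invol.mul_self_eq_one ha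
  have hcard : Nat.card (centralizer ({t, a} : Set G)) = 4 := by
    have hset : (centralizer ({t, a} : Set G) : Set G) = {1, t, a, t * a} := by
      ext g; simp only [SetLike.mem_coe, hm, Set.mem_insert_iff, Set.mem_singleton_iff]
    have : Nat.card (centralizer ({t, a} : Set G)) = Set.ncard ({1, t, a, t * a} : Set G) := by
      rw [← hset]; exact Nat.card_coe_set_eq _
    rw [this]
    have t1 := CfsgLib.Invol.ne_one ht
    have a1 := CfsgLib.Invol.ne_one ha
    rw [Set.ncard_insert_of_notMem, Set.ncard_insert_of_notMem, Set.ncard_pair]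
    · intro e; exact t1 (mul_eq_right.1 e.symm)
    · rintro (e | e)
      · exact hat e.symm
      · exact a1 (mul_eq_left.1 (Set.mem_singleton_iff.1 e).symm)
    · rintro (e | e | e)
      · exact t1 e.symm
      · exact a1 e.symm
      · have e' : t * a = 1 := (Set.mem_singleton_iff.1 e).symm
        exact hat ((inv_eq_of_mul_eq_one_right e').symm.trans (inv_eq_of_mul_eq_one_right htt))
  refine ⟨hcard, ?_⟩
  refine ((Nat.dvd_prime Nat.prime_two).1 (Monoid.exponent_dvd_of_forall_pow_eq_one ?_)).resolve_left ?_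
  · rintro ⟨g, hg⟩
    refine Subtype.ext ?_
    show g ^ 2 = 1
    rw [pow_two]
    rcases (hm g).1 hg with rfl | rfl | rfl | rfl
    · exact one_mul 1
    · exact htt
    · exact haa
    · rw [hc.mul_mul_mul_comm, htt, haa, one_mul]
  · intro e
    haveI := (Monoid.exp_eq_one_iff).1 e
    rw [Nat.card_unique] at hcard
    omega

variable [IsSimpleGroup G] (hna : ¬ IsMulCommutative G)

include hna in
omit ht ha hat hc hV in
theorem sylow_cases (h : SC G) (S : Sylow 2 G) :
    (∃ n : ℕ, 2 ≤ n ∧ Nonempty ((S : Subgroup G) ≃* DihedralGroup n)) ∨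
      Cfsg.IsQuasiDihedral (S : Subgroup G) := by
  haveI : Fact (Nat.Prime 2) := ⟨Nat.prime_two⟩
  obtain ⟨t, a, ht, ha, hat, htS, haS, htZ, hV⟩ := exists_klein hna h S
  have hc : Commute a t := htZ a haS
  have hm := pair_cases hc hV
  set T := centralizer ({t, a} : Set G) with hT
  have hTS : T ≤ (S : Subgroup G) := fun g hg => by
    rcases (hm g).1 hg with rfl | rfl | rfl | rfl
    exacts [one_mem _, htS, haS, mul_mem htS haS]
  haveI hK : IsKleinFour T := pair_klein ht ha hat hc hV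
  set A := T.subgroupOf (S : Subgroup G) with hA
  have hA4 : Nat.card A = 2 ^ 2 := by
    rw [Nat.card_congr (subgroupOfEquivOfLe hTS).toEquiv, hK.card_four]
    norm_num
  have hCA : centralizer (A : Set (S : Subgroup G)) = A := by
    refine le_antisymm (fun g hg => ?_) (fun g hg => ?_)
    · rw [mem_centralizer_iff] at hg
      rw [hA, mem_subgroupOf, hT, mem_pair_centralizer]
      exact ⟨(congrArg Subtype.val (hg ⟨t, htS⟩ (mem_subgroupOf.2 ((hm t).2 (Or.inr (Or.inl rfl)))))).symm,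
        (congrArg Subtype.val (hg ⟨a, haS⟩ (mem_subgroupOf.2 ((hm a).2 (Or.inr (Or.inr (Or.inl rfl))))))).symm⟩
    · rw [mem_centralizer_iff]
      intro x hx
      exact Subtype.ext (congrArg (fun w : T => (w : G))
        (mul_comm_of_exponent_two hK.exponent_two (⟨x, mem_subgroupOf.1 hx⟩ : T) ⟨g, mem_subgroupOf.1 hg⟩))
  obtain ⟨n, hn⟩ := IsPGroup.iff_card.1 S.2
  have hn2 : 2 ≤ n := (Nat.pow_le_pow_iff_right (a := 2) Nat.one_lt_two).1
    (hn ▸ hA4 ▸ Subgroup.card_le_card_group A)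
  rcases hn2.eq_or_lt with e | hn3
  · subst e
    have hAS : A = ⊤ := eq_top_of_card_eq A (hA4.trans hn.symm)
    haveI : IsKleinFour (S : Subgroup G) := by
      refine ⟨hn.trans (by norm_num), ?_⟩
      rw [← Monoid.exponent_eq_of_mulEquiv (Subgroup.topEquiv (G := (S : Subgroup G))), ← hAS, hA,
        Monoid.exponent_eq_of_mulEquiv (subgroupOfEquivOfLe hTS), hK.exponent_two]
    exact Or.inl ⟨2, le_rfl, IsKleinFour.nonempty_mulEquiv⟩
  have hcl := Cfsg.Agent.S0112.result n hn A hA4 hCA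
  haveI hab := (Cfsg.Agent.S0115.result n hn3 hn).1 hcl
  rcases Cfsg.Agent.S4399.result S.2 hab.card_four
    (fun x => (pow_two x).trans (IsKleinFour.mul_self (G := (S : Subgroup G) ⧸ commutator (S : Subgroup G)) x)) with
    h4 | ⟨k, e⟩ | ⟨k, hk, x, y, hx, hy, hxy⟩ | ⟨k, ⟨e⟩⟩
  · rw [h4] at hn
    exact absurd hn (by
      have := Nat.pow_le_pow_right (show 0 < 2 by norm_num) hn3
      norm_num at this; omega)
  · exact Or.inl ⟨_, (Nat.pow_le_pow_right two_pos (by omega : 1 ≤ k + 2)).trans_eq' (by norm_num), e⟩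
  · exact Or.inr ⟨k + 3, by omega, hk, x, y, hx, hy, hxy⟩
  · exfalso
    have h1 := Cfsg.Agent.S0218.result k
    obtain ⟨hsub, -⟩ := Nat.card_eq_one_iff_unique.1 h1
    have et : orderOf (e ⟨t, htS⟩) = 2 := by rw [MulEquiv.orderOf_eq, Subgroup.orderOf_mk]; exact ht
    have ea : orderOf (e ⟨a, haS⟩) = 2 := by rw [MulEquiv.orderOf_eq, Subgroup.orderOf_mk]; exact ha
    exact hat (congrArg Subtype.val (e.injective (congrArg Subtype.val
      (hsub.elim ⟨_, ea⟩ ⟨_, et⟩))))

include hna in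
omit ht ha hat hc hV in
theorem not_quasiDihedral (h : SC G) (S : Sylow 2 G) : ¬ Cfsg.IsQuasiDihedral (S : Subgroup G) := by
  intro hS
  haveI : Fact (Nat.Prime 2) := ⟨Nat.prime_two⟩
  have h2 : 2 ∣ Nat.card G := even_iff_two_dvd.1 (even_card hna h)
  obtain ⟨t, a, ht, ha, hat, htS, haS, htZ, hV⟩ := exists_klein hna h S
  obtain ⟨D⟩ := CfsgLib.QD.exists_data hS
  have hz : (D.z : G) = t := by
    have htc : (⟨t, htS⟩ : (S : Subgroup G)) ∈ center (S : Subgroup G) :=
      mem_center_iff.2 fun s => Subtype.ext (htZ s s.2)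
    rw [D.center_eq] at htc
    obtain ⟨i, hi⟩ := mem_zpowers_iff.1 htc
    rcases Int.even_or_odd i with ⟨m, hm⟩ | ⟨m, hm⟩
    · rw [hm, ← two_mul, zpow_mul, zpow_two, D.z_sq, one_zpow] at hi
      exact absurd (congrArg Subtype.val hi).symm (CfsgLib.Invol.ne_one ht)
    · rw [hm, zpow_add, zpow_mul, zpow_two, D.z_sq, one_zpow, zpow_one, one_mul] at hi
      exact congrArg Subtype.val hi
  have hc : Commute a t := htZ a haS
  have hm := pair_cases hc hV
  set T := centralizer ({t, a} : Set G) with hT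
  have hTS : T ≤ (S : Subgroup G) := fun g hg => by
    rcases (hm g).1 hg with rfl | rfl | rfl | rfl
    exacts [one_mem _, htS, haS, mul_mem htS haS]
  have hK : IsKleinFour T := pair_klein ht ha hat hc hV
  obtain ⟨Q0, hQ0, ⟨eQ0⟩⟩ :=
    CfsgLib.InvolPattern.exists_quaternion_of_equiv D.q_pos D.half_one_quaternion.some
  set Q : Subgroup G := Q0.map (S : Subgroup G).subtype with hQ
  have hQS : Q ≤ (S : Subgroup G) := map_subtype_le _
  have eQ : Q ≃* QuaternionGroup 2 :=
    (equivMapOfInjective Q0 _ (S : Subgroup G).subtype_injective).symm.trans eQ0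
  obtain ⟨hT26, hQ26⟩ := Cfsg.Agent.S1203.result S hS T hK hTS Q hQS eQ
  rcases hT26 with h1 | h1 <;> rcases hQ26 with h2' | h2'
  · exact not_hasNormalPComplement hna h2 (Cfsg.Agent.S1207.result S hS T hK hTS Q hQS eQ h1 h2').1
  · obtain ⟨⟨K, -, hK2, -⟩, -⟩ := Cfsg.Agent.S1205.result S hS T hK hTS Q hQS eQ h1 h2'
    exact not_index_two hna hK2
  · obtain ⟨⟨K, -, hK2, -⟩, -⟩ := Cfsg.Agent.S1206.result S hS T hK hTS Q hQS eQ h1 h2'
    exact not_index_two hna hK2
  -- both automizers are as large as possible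
  have hCQ : centralizer (Q : Set G) ≤ Q := by
    refine h Q fun hcyc => ?_
    haveI := hcyc
    have h8 := CfsgLib.AutomizerSix.card_center_quaternion eQ
    have hcen : center Q = ⊤ :=
      eq_top_iff.2 fun x _ => mem_center_iff.2 fun y => IsCyclic.commGroup.mul_comm y x
    rw [hcen, card_top, Nat.card_congr eQ.toEquiv, Nat.card_eq_fintype_card,
      QuaternionGroup.card] at h8
    omega
  rw [sup_eq_left.2 hCQ] at h2'
  obtain ⟨⟨x, hxN⟩, hx3⟩ : ∃ x : normalizer (Q : Set G), orderOf x = 3 := by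
    haveI : Fact (Nat.Prime 3) := ⟨Nat.prime_three⟩
    refine exists_prime_orderOf_dvd_card' 3 ?_
    rw [← (Q.subgroupOf (normalizer (Q : Set G))).card_mul_index]
    rw [show (Q.subgroupOf (normalizer (Q : Set G))).index = 6 from h2']
    exact Dvd.intro (Nat.card _ * 2) (by ring)
  rw [Subgroup.orderOf_mk] at hx3
  have hxQ : ∀ g ∈ Q, x * g * x⁻¹ ∈ Q := fun g hg => (mem_normalizer_iff.1 hxN g).1 hg
  -- `x` fixes the only involution of `Q`
  have hinvQ : ∀ u ∈ Q, orderOf u = 2 → u = t := by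
    rintro _ ⟨u, hu, rfl⟩ hu2
    rcases D.invol_cases (g := u) ((Subgroup.orderOf_coe u).symm.trans hu2) with e | ⟨j, hj, e⟩
    · rw [e]; exact hz
    · have := hQ0 hu
      rw [e, D.refl_mem_half] at this
      omega
  obtain ⟨i, hi, hQset⟩ := D.quaternion_structure ⟨eQ0⟩
  set b := D.x ^ i * D.y with hb
  have hQmem : ∀ u : (S : Subgroup G), u ∈ Q0 ↔ u = 1 ∨ u = D.z ∨ u = D.w ∨ u = D.w⁻¹ ∨ u = b ∨
      u = D.z * b ∨ u = D.w * b ∨ u = D.w⁻¹ * b := fun u => by rw [← SetLike.mem_coe, hQset]; simp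
  have htQ : t ∈ Q := hz ▸ mem_map_of_mem _ ((hQmem D.z).2 (by simp))
  have hxC : x ∈ centralizer ({t} : Set G) := by
    rw [mem_centralizer_singleton_iff]
    have h1 := hinvQ _ (hxQ t htQ)
      ((show orderOf (x * t * x⁻¹) = orderOf t from MulEquiv.orderOf_eq (MulAut.conj x) t).trans ht)
    exact mul_inv_eq_iff_eq_mul.1 h1
  set C := centralizer ({t} : Set G) with hC
  have hSC : (S : Subgroup G) ≤ C := fun s hs => mem_centralizer_singleton_iff.2 (htZ s hs)
  set M : Subgroup G := (Cfsg.pCore 2 C).map C.subtype with hM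
  have hMC : M ≤ C := map_subtype_le _
  have hMn : ∀ g ∈ C, ∀ m ∈ M, g * m * g⁻¹ ∈ M := by
    rintro g hg _ ⟨m, hm', rfl⟩
    exact ⟨⟨g, hg⟩ * m * ⟨g, hg⟩⁻¹,
      (inferInstance : (Cfsg.pCore 2 C).Normal).conj_mem m hm' _, rfl⟩
  have hinvM : ∀ s ∈ (S : Subgroup G), orderOf s = 2 → s ∈ M := by
    intro s hs hs2
    by_contra hnot
    obtain ⟨d, hd1, hdo, hinv⟩ := CfsgLib.Invol.exists_inverted_odd (G := C) ⟨s, hSC hs⟩
      (by rw [Subgroup.orderOf_mk]; exact hs2) (fun hp => hnot ⟨_, hp, rfl⟩)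
    have hdt : Commute t (d : G) := (mem_centralizer_singleton_iff.1 d.2).symm
    have hd1' : (d : G) ≠ 1 := fun e => hd1 (Subtype.ext e)
    have hdo' : Odd (orderOf (d : G)) := by rwa [Subgroup.orderOf_coe]
    by_cases hst : s = t
    · subst hst
      have h3 : s * (d : G) * s⁻¹ = (d : G)⁻¹ := congrArg Subtype.val hinv
      rw [hdt.eq, mul_inv_cancel_right] at h3
      have h5 : orderOf (d : G) ∣ 2 := orderOf_dvd_of_pow_eq_one (by
        rw [pow_two]; nth_rw 2 [h3]; exact mul_inv_cancel _)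
      rcases (Nat.dvd_prime Nat.prime_two).1 h5 with h6 | h6
      · exact hd1' (orderOf_eq_one_iff.1 h6)
      · rw [h6] at hdo'; exact absurd hdo' (by decide)
    · exact key h ht hs2 (Commute.symm (htZ s hs)) hst hdt hd1' hdo' (congrArg Subtype.val hinv)
  have hMS : M ≤ (S : Subgroup G) := by
    have hp : IsPGroup 2 (M ⊔ (S : Subgroup G) : Subgroup G) :=
      ((Solvable.isPGroup_pCore (p := 2) (G := C)).map C.subtype).to_sup_of_normal_left' S.2 (fun g hg => by
        rw [mem_normalizer_iff]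
        refine fun m => ⟨hMn g (hSC hg) m, fun hm' => ?_⟩
        have := hMn g⁻¹ (inv_mem (hSC hg)) _ hm'
        rwa [show g⁻¹ * (g * m * g⁻¹) * g⁻¹⁻¹ = m by group] at this)
    exact le_sup_left.trans (S.3 hp le_sup_right).le
  have hhalf : D.half 0 ≤ M.subgroupOf (S : Subgroup G) := by
    rw [← D.closure_invol, closure_le]
    intro s hs
    exact mem_subgroupOf.2 (hinvM s s.2 ((Subgroup.orderOf_coe s).trans hs))
  have hwM : (D.w : G) ∈ M := mem_subgroupOf.1 (hhalf (D.rot_mem_half.2 (dvd_mul_right 2 _)))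
  have hzM : (D.z : G) ∈ M := by rw [← D.w_sq]; exact mul_mem hwM hwM
  have hwQ : (D.w : G) ∈ Q := mem_map_of_mem _ ((hQmem D.w).2 (by simp))
  have hbQ : (b : G) ∈ Q := mem_map_of_mem _ ((hQmem b).2 (by simp))
  suffices hcomm : ∀ q ∈ Q, Commute q x by
    have hxq : x ∈ Q := hCQ (mem_centralizer_iff.2 fun q hq => (hcomm q hq).eq)
    have h38 := Subgroup.orderOf_dvd_natCard _ hxq
    rw [hx3, Nat.card_congr eQ.toEquiv, Nat.card_eq_fintype_card, QuaternionGroup.card] at h38
    omega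
  by_cases hbM : (b : G) ∈ M
  · have htop : M.subgroupOf (S : Subgroup G) = ⊤ := by
      refine (CfsgLib.QD.Data.isCoatom_of_index_two (D.index_half 0)).2 _ (lt_of_le_of_ne hhalf fun e => ?_)
      have : b ∈ D.half 0 := e ▸ mem_subgroupOf.2 hbM
      rw [hb, D.refl_mem_half] at this
      omega
    have hMeq : M = (S : Subgroup G) := le_antisymm hMS (subgroupOf_eq_top.1 htop)
    have hxS : x ∈ normalizer ((S : Subgroup G) : Set G) := by
      rw [mem_normalizer_iff]
      refine fun m => ⟨fun hm' => hMeq ▸ hMn x hxC m (hMeq.symm ▸ hm'), fun hm' => ?_⟩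
      have := hMn x⁻¹ (inv_mem hxC) _ (hMeq.symm ▸ hm')
      rw [show x⁻¹ * (x * m * x⁻¹) * x⁻¹⁻¹ = m by group, hMeq] at this
      exact this
    let f : MulAut (S : Subgroup G) := (S : Subgroup G).normalizerMonoidHom ⟨x, hxS⟩
    have hf : f = 1 := by
      obtain ⟨k, hk⟩ := IsPGroup.iff_orderOf.1 (Cfsg.Agent.S3116.result S.2 (Or.inr hS)) f
      have h3 : orderOf f ∣ 3 := hx3 ▸ Subgroup.orderOf_mk x hxS ▸ orderOf_map_dvd _ _
      rw [hk] at h3
      rcases k with _ | k
      · exact orderOf_eq_one_iff.1 (by rw [hk, pow_zero])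
      · exact absurd ((dvd_pow_self 2 k.succ_ne_zero).trans h3) (by norm_num)
    intro q hq
    have h4 : x * q * x⁻¹ = q :=
      congrArg Subtype.val (DFunLike.congr_fun hf (⟨q, hQS hq⟩ : (S : Subgroup G)))
    exact (mul_inv_eq_iff_eq_mul.1 h4).symm
  · have hzb : ∀ c : G, c ∈ M → c * (b : G) ∉ M := fun c hc' hcb => hbM (by
      have := mul_mem (inv_mem hc') hcb
      rwa [inv_mul_cancel_left] at this)
    have hcases : ∀ q ∈ Q, (q ∈ M ∧ (q = 1 ∨ q = t ∨ q = D.w ∨ q = (D.w : G)⁻¹)) ∨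
        (q ∉ M ∧ ∃ c : G, (c = 1 ∨ c = t ∨ c = D.w ∨ c = (D.w : G)⁻¹) ∧ q = c * b) := by
      rintro _ ⟨u, hu, rfl⟩
      rcases (hQmem u).1 hu with rfl | rfl | rfl | rfl | rfl | rfl | rfl | rfl
      · exact Or.inl ⟨one_mem _, Or.inl rfl⟩
      · exact Or.inl ⟨hzM, Or.inr (Or.inl hz)⟩
      · exact Or.inl ⟨hwM, Or.inr (Or.inr (Or.inl rfl))⟩
      · exact Or.inl ⟨inv_mem hwM, Or.inr (Or.inr (Or.inr rfl))⟩
      · exact Or.inr ⟨hbM, 1, Or.inl rfl, (one_mul _).symm⟩
      · exact Or.inr ⟨hzb _ hzM, _, Or.inr (Or.inl hz), rfl⟩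
      · exact Or.inr ⟨hzb _ hwM, _, Or.inr (Or.inr (Or.inl rfl)), rfl⟩
      · exact Or.inr ⟨hzb _ (inv_mem hwM), _, Or.inr (Or.inr (Or.inr rfl)), rfl⟩
    have hw4 : orderOf (D.w : G) = 4 := (Subgroup.orderOf_coe D.w).trans D.orderOf_w
    have hxw : Commute x (D.w : G) := by
      rcases hcases _ (hxQ _ hwQ) with ⟨-, e⟩ | ⟨hn', -⟩
      swap; · exact absurd (hMn x hxC _ hwM) hn'
      have ho : orderOf (x * (D.w : G) * x⁻¹) = 4 :=
        (show orderOf (x * (D.w : G) * x⁻¹) = orderOf (D.w : G) from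
          MulEquiv.orderOf_eq (MulAut.conj x) _).trans hw4
      rcases e with e | e | e | e
      · rw [e, orderOf_one] at ho; omega
      · rw [e, ht] at ho; omega
      · exact mul_inv_eq_iff_eq_mul.1 e
      · exfalso
        have h2x : x ^ 2 * (D.w : G) * (x ^ 2)⁻¹ = D.w := by
          calc x ^ 2 * (D.w : G) * (x ^ 2)⁻¹ = x * (x * D.w * x⁻¹) * x⁻¹ := by rw [pow_two]; group
            _ = (x * D.w * x⁻¹)⁻¹ := by (conv_lhs => rw [e]); group
            _ = D.w := by rw [e, inv_inv]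
        have hx3' : x ^ 3 = 1 := hx3 ▸ pow_orderOf_eq_one x
        have hxx : (x ^ 2) ^ 2 = x := by
          rw [← pow_mul, show 2 * 2 = 3 + 1 from rfl, pow_succ, hx3', one_mul]
        have h6 : Commute x (D.w : G) := by
          have h7 : Commute (x ^ 2) (D.w : G) := mul_inv_eq_iff_eq_mul.1 h2x
          have := h7.pow_left 2
          rwa [hxx] at this
        rw [h6.eq, mul_inv_cancel_right] at e
        have h5 : orderOf (D.w : G) ∣ 2 := orderOf_dvd_of_pow_eq_one (by
          rw [pow_two]; nth_rw 2 [e]; exact mul_inv_cancel _)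
        rw [hw4] at h5; omega
    have hxz : Commute x t := mem_centralizer_singleton_iff.1 hxC
    have hxb : Commute x (b : G) := by
      rcases hcases _ (hxQ _ hbQ) with ⟨hm', -⟩ | ⟨-, c, hc4, e⟩
      · refine absurd ?_ hbM
        have := hMn x⁻¹ (inv_mem hxC) _ hm'
        rwa [show x⁻¹ * (x * (b : G) * x⁻¹) * x⁻¹⁻¹ = b by group] at this
      have hxc : Commute x c := by
        rcases hc4 with rfl | rfl | rfl | rfl
        exacts [Commute.one_right _, hxz, hxw, hxw.inv_right]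
      have e3 : x ^ 3 * (b : G) * (x ^ 3)⁻¹ = c ^ 3 * b := by
        calc x ^ 3 * (b : G) * (x ^ 3)⁻¹ = x * (x * (x * b * x⁻¹) * x⁻¹) * x⁻¹ := by
              rw [pow_succ, pow_two]; group
          _ = x * (c * (x * b * x⁻¹)) * x⁻¹ := by
              rw [e]; congr 2; rw [← mul_assoc x c, hxc.eq]; rw [← e]; group
          _ = x * (c * c * b) * x⁻¹ := by rw [e, ← mul_assoc c]
          _ = c * c * (x * b * x⁻¹) := by
              rw [← mul_assoc x (c * c), (hxc.mul_right hxc).eq]; group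
          _ = c ^ 3 * b := by rw [e, ← mul_assoc, pow_succ, pow_two]
      rw [show x ^ 3 = 1 from hx3 ▸ pow_orderOf_eq_one x, one_mul, inv_one, mul_one] at e3
      have hc3 : orderOf c ∣ 3 := orderOf_dvd_of_pow_eq_one (mul_eq_right.1 e3.symm)
      have hc1 : c = 1 := by
        rcases hc4 with rfl | rfl | rfl | rfl
        · rfl
        · rw [ht] at hc3; omega
        · rw [hw4] at hc3; omega
        · rw [orderOf_inv, hw4] at hc3; omega
      rw [hc1, one_mul] at e
      exact mul_inv_eq_iff_eq_mul.1 e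
    intro q hq
    refine Commute.symm ?_
    rcases hcases q hq with ⟨-, e⟩ | ⟨-, c, e, rfl⟩
    · rcases e with rfl | rfl | rfl | rfl
      exacts [Commute.one_right _, hxz, hxw, hxw.inv_right]
    · refine Commute.mul_right ?_ hxb
      rcases e with rfl | rfl | rfl | rfl
      exacts [Commute.one_right _, hxz, hxw, hxw.inv_right]

end CfsgLib.SelfCentNC
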